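import Groth.Agent.W4c3biextchow.K883.ElemHomology
import Groth.Prelude.Def_W4c3biextchowCx
import Mathlib.Algebra.Homology.QuasiIso
import Mathlib.CategoryTheory.Equivalence

/-!
The groupoid attached to a complex: full / faithful / essentially surjective in terms of homology.
-/

set_option autoImplicit false
universe u v

open CategoryTheory CategoryTheory.Limits W4c3biextchow

namespace K883.CxFunctor

variable {R : Type u} [Ring R] {C D : ChainComplex (ModuleCat.{v} R) ℕ}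

/-- A morphism of the groupoid from a degree-one element. -/
def mkHom (C : ChainComplex (ModuleCat.{v} R) ℕ) (a b : Obj C) (x : C.X 1)
    (h : (C.d 1 0).hom x = b.pt - a.pt) : a ⟶ b :=
  (⟨Submodule.Quotient.mk x, by rw [delta_mk]; exact h⟩ : Hom C a b)

theorem exists_mkHom {a b : Obj C} (φ : a ⟶ b) : ∃ (x : C.X 1)
    (h : (C.d 1 0).hom x = b.pt - a.pt), φ = mkHom C a b x h := by
  obtain ⟨x, hx⟩ := Submodule.Quotient.mk_surjective _ (φ : Hom C a b).cl
  have h := (φ : Hom C a b).delta_cl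
  rw [← hx, delta_mk] at h
  exact ⟨x, h, Hom.ext hx.symm⟩

theorem mkHom_eq_iff {a b : Obj C} {x y : C.X 1} (hx : (C.d 1 0).hom x = b.pt - a.pt)
    (hy : (C.d 1 0).hom y = b.pt - a.pt) :
    mkHom C a b x hx = mkHom C a b y hy ↔ ∃ w, (C.d 2 1).hom w = x - y := by
  constructor
  · intro h
    have h1 : (Submodule.Quotient.mk x : Q1 C) = Submodule.Quotient.mk y :=
      congrArg Hom.cl h
    rw [Submodule.Quotient.eq] at h1
    exact h1
  · intro h
    refine Hom.ext ?_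
    change (Submodule.Quotient.mk x : Q1 C) = Submodule.Quotient.mk y
    rw [Submodule.Quotient.eq]
    exact h

theorem d_map (f : C ⟶ D) (i j : ℕ) (x : C.X i) :
    (D.d i j).hom ((f.f i).hom x) = (f.f j).hom ((C.d i j).hom x) :=
  congr($(f.comm i j) x)

theorem map_mkHom (f : C ⟶ D) {a b : Obj C} {x : C.X 1} (hx : (C.d 1 0).hom x = b.pt - a.pt) :
    (cxFunctor f).map (mkHom C a b x hx) = mkHom D _ _ ((f.f 1).hom x)
      (by rw [d_map, hx, map_sub]; rfl) := by
  refine Hom.ext ?_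
  rw [cxFunctor_map_cl]
  exact q1Map_mk f x

theorem prev_one : (ComplexShape.down ℕ).prev 1 = 2 := ChainComplex.prev ℕ 1
theorem next_one : (ComplexShape.down ℕ).next 1 = 0 := ChainComplex.next_nat_succ 0
theorem prev_zero : (ComplexShape.down ℕ).prev 0 = 1 := ChainComplex.prev ℕ 0
theorem next_zero : (ComplexShape.down ℕ).next 0 = 0 := ChainComplex.next_nat_zero

theorem d_zero_zero (C : ChainComplex (ModuleCat.{v} R) ℕ) (x : C.X 0) :
    (C.d 0 0).hom x = 0 := by
  rw [C.shape 0 0 (by simp)]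
  rfl

theorem faithful_iff (f : C ⟶ D) :
    (cxFunctor f).Faithful ↔ Mono (HomologicalComplex.homologyMap f 1) := by
  rw [K883.ElemHomology.mono_homologyMap_iff f 2 0 prev_one next_one]
  constructor
  · intro h x hx ⟨y, hy⟩
    have h0 : (C.d 1 0).hom x = (⟨0⟩ : Obj C).pt - (⟨0⟩ : Obj C).pt := by
      rw [hx]; simp
    have h0' : (C.d 1 0).hom (0 : C.X 1) = (⟨0⟩ : Obj C).pt - (⟨0⟩ : Obj C).pt := by
      rw [map_zero]; simp
    have h1 : (cxFunctor f).map (mkHom C ⟨0⟩ ⟨0⟩ x h0) = (cxFunctor f).map (mkHom C ⟨0⟩ ⟨0⟩ 0 h0') := by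
      rw [map_mkHom, map_mkHom, mkHom_eq_iff]
      exact ⟨y, by rw [hy, map_zero, sub_zero]⟩
    have h2 := (cxFunctor f).map_injective h1
    rw [mkHom_eq_iff] at h2
    simpa using h2
  · intro h
    refine ⟨fun {a b} φ ψ hφψ => ?_⟩
    obtain ⟨x, hx, rfl⟩ := exists_mkHom φ
    obtain ⟨y, hy, rfl⟩ := exists_mkHom ψ
    rw [map_mkHom, map_mkHom, mkHom_eq_iff] at hφψ
    rw [mkHom_eq_iff]
    refine h (x - y) (by rw [map_sub, hx, hy, sub_self]) ?_
    rw [map_sub]
    exact hφψ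

theorem full_iff (f : C ⟶ D) :
    (cxFunctor f).Full ↔
      Epi (HomologicalComplex.homologyMap f 1) ∧ Mono (HomologicalComplex.homologyMap f 0) := by
  rw [K883.ElemHomology.mono_homologyMap_iff f 1 0 prev_zero next_zero,
    K883.ElemHomology.epi_homologyMap_iff f 2 0 prev_one next_one]
  constructor
  · intro h
    refine ⟨fun y hy => ?_, fun a _ => ?_⟩
    · have h0 : (D.d 1 0).hom y = ((cxFunctor f).obj (⟨0⟩ : Obj C)).pt -
          ((cxFunctor f).obj (⟨0⟩ : Obj C)).pt := by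
        rw [hy]; simp
      obtain ⟨φ, hφ⟩ := h.map_surjective (mkHom D _ _ y h0)
      obtain ⟨x, hx, rfl⟩ := exists_mkHom φ
      rw [map_mkHom, mkHom_eq_iff] at hφ
      obtain ⟨w, hw⟩ := hφ
      refine ⟨x, -w, ?_, ?_⟩
      · rw [hx]; simp
      · rw [map_neg, hw]; abel
    · rintro ⟨y, hy⟩
      have h0 : (D.d 1 0).hom y = ((cxFunctor f).obj (⟨a⟩ : Obj C)).pt -
          ((cxFunctor f).obj (⟨0⟩ : Obj C)).pt := by
        rw [hy]; simp
      obtain ⟨φ, hφ⟩ := h.map_surjective (mkHom D _ _ y h0)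
      obtain ⟨x, hx, rfl⟩ := exists_mkHom φ
      exact ⟨x, by rw [hx]; simp⟩
  · rintro ⟨h1, h0⟩
    refine ⟨fun {a b} φ => ?_⟩
    obtain ⟨y, hy, rfl⟩ := exists_mkHom φ
    rw [cxFunctor_obj_pt, cxFunctor_obj_pt, ← map_sub] at hy
    obtain ⟨x, hx⟩ := h0 (b.pt - a.pt) (d_zero_zero C _) ⟨y, hy⟩
    obtain ⟨x', w, hx', hw⟩ := h1 (y - (f.f 1).hom x) (by rw [map_sub, hy, d_map, hx, sub_self])
    refine ⟨mkHom C a b (x + x') (by rw [map_add, hx, hx', add_zero]), ?_⟩
    rw [map_mkHom, mkHom_eq_iff]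
    refine ⟨-w, ?_⟩
    rw [map_neg, map_add]
    have : y = (f.f 1).hom x + ((f.f 1).hom x' + (D.d 2 1).hom w) := by rw [hw]; abel
    rw [this]
    abel

theorem essSurj_iff (f : C ⟶ D) :
    (cxFunctor f).EssSurj ↔ Epi (HomologicalComplex.homologyMap f 0) := by
  rw [K883.ElemHomology.epi_homologyMap_iff f 1 0 prev_zero next_zero]
  constructor
  · intro h y _
    obtain ⟨a, ⟨e⟩⟩ := h.mem_essImage (⟨y⟩ : Obj D)
    obtain ⟨w, hw, _⟩ := exists_mkHom e.hom
    refine ⟨a.pt, w, d_zero_zero C _, ?_⟩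
    rw [hw]
    simp
  · intro h
    refine ⟨fun b => ?_⟩
    obtain ⟨x, w, _, hw⟩ := h b.pt (d_zero_zero D _)
    refine ⟨(⟨x⟩ : Obj C), ⟨⟨mkHom D _ _ w ?_, mkHom D _ _ (-w) ?_, ?_, ?_⟩⟩⟩
    · rw [← hw]; simp
    · rw [map_neg, ← hw]; simp
    · refine Hom.ext ?_
      rw [comp_cl, id_cl]
      change (Submodule.Quotient.mk w : Q1 D) + Submodule.Quotient.mk (-w) = 0
      rw [← Submodule.Quotient.mk_add, add_neg_cancel, Submodule.Quotient.mk_zero]
    · refine Hom.ext ?_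
      rw [comp_cl, id_cl]
      change (Submodule.Quotient.mk (-w) : Q1 D) + Submodule.Quotient.mk w = 0
      rw [← Submodule.Quotient.mk_add, neg_add_cancel, Submodule.Quotient.mk_zero]

end K883.CxFunctor
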