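import Groth.Agent.W4c3biextchow.K883.ElemHomology
import Mathlib.Algebra.Homology.QuasiIso
import Mathlib.Algebra.Homology.Homotopy
import Mathlib.Algebra.Category.ModuleCat.Projective
import Mathlib.CategoryTheory.Abelian.Projective.Resolution

/-!
Short exact sequences `0 → A' → A → A'' → 0` of chain complexes with `A' → A` a quasi-isomorphism and
`A''` degreewise projective.
-/

set_option autoImplicit false
universe u v

open CategoryTheory CategoryTheory.Limits
open scoped ZeroObject

namespace K883.FreeSES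

variable {R : Type u} [Ring R] [Small.{v} R]

section exact

variable {A' A A'' : ChainComplex (ModuleCat.{v} R) ℕ} (f : A' ⟶ A) (p : A ⟶ A'')

omit [Small.{v} R] in
theorem comm_apply {B C : ChainComplex (ModuleCat.{v} R) ℕ} (φ : B ⟶ C) (i j : ℕ) (x : B.X i) :
    (C.d i j).hom ((φ.f i).hom x) = (φ.f j).hom ((B.d i j).hom x) :=
  congr($(φ.comm i j) x)

omit [Small.{v} R] in
theorem dd_apply (B : ChainComplex (ModuleCat.{v} R) ℕ) (i j k : ℕ) (x : B.X i) :
    (B.d j k).hom ((B.d i j).hom x) = 0 :=
  congr($(B.d_comp_d i j k) x)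

omit [Small.{v} R] in
theorem exact_quotient (hf : ∀ q, Function.Injective (f.f q).hom)
    (hp : ∀ q, Function.Surjective (p.f q).hom)
    (hfp : ∀ q, Function.Exact (f.f q).hom (p.f q).hom) [QuasiIso f] (i j k : ℕ)
    (hi : (ComplexShape.down ℕ).prev j = i) (hk : (ComplexShape.down ℕ).next j = k)
    (x : A''.X j) (hx : (A''.d j k).hom x = 0) : ∃ y : A''.X i, (A''.d i j).hom y = x := by
  have hiso : ∀ n, IsIso (HomologicalComplex.homologyMap f n) := fun n => by
    rw [← quasiIsoAt_iff_isIso_homologyMap]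
    infer_instance
  obtain ⟨x, rfl⟩ := hp j x
  rw [comm_apply] at hx
  obtain ⟨x', hx'⟩ := (hfp k _).1 hx
  -- `x'` is a cycle
  have hepi := (K883.ElemHomology.epi_homologyMap_iff f i k hi hk).1 inferInstance
  by_cases hjk : (ComplexShape.down ℕ).Rel j k
  · have hprev : (ComplexShape.down ℕ).prev k = j := ComplexShape.prev_eq' _ hjk
    have hmono := (K883.ElemHomology.mono_homologyMap_iff f j _ hprev rfl).1 inferInstance
    obtain ⟨y', hy'⟩ := hmono x' (by
      apply hf
      rw [← comm_apply, hx', dd_apply, map_zero]) ⟨x, hx'.symm⟩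
    obtain ⟨z', w, _, hw⟩ := hepi (x - (f.f j).hom y') (by
      rw [map_sub, comm_apply, hy', hx', sub_self])
    refine ⟨(p.f i).hom w, ?_⟩
    rw [comm_apply]
    have h1 : (A.d i j).hom w = x - (f.f j).hom y' - (f.f j).hom z' := by rw [← hw]; abel
    have h2 : ∀ y, (p.f j).hom ((f.f j).hom y) = 0 := fun y => (hfp j _).2 ⟨y, rfl⟩
    rw [h1, map_sub, map_sub, h2, h2, sub_zero, sub_zero]
  · have h0 : (A.d j k).hom x = 0 := by
      rw [A.shape j k hjk]; rfl
    obtain ⟨z', w, _, hw⟩ := hepi x h0
    refine ⟨(p.f i).hom w, ?_⟩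
    rw [comm_apply]
    have h1 : (A.d i j).hom w = x - (f.f j).hom z' := by rw [← hw]; abel
    have h2 : ∀ y, (p.f j).hom ((f.f j).hom y) = 0 := fun y => (hfp j _).2 ⟨y, rfl⟩
    rw [h1, map_sub, h2, sub_zero]

/-- An exact bounded below complex of projectives is contractible. -/
noncomputable def contraction (B : ChainComplex (ModuleCat.{v} R) ℕ)
    (hproj : ∀ q, Module.Projective R (B.X q))
    (hex : ∀ i j k : ℕ, (ComplexShape.down ℕ).prev j = i → (ComplexShape.down ℕ).next j = k →
      ∀ x : B.X j, (B.d j k).hom x = 0 → ∃ y : B.X i, (B.d i j).hom y = x) :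
    Homotopy (𝟙 B) 0 := by
  have hq : QuasiIso (0 : B ⟶ (ChainComplex.single₀ (ModuleCat.{v} R)).obj 0) := by
    rw [quasiIso_iff]
    intro j
    rw [quasiIsoAt_iff_isIso_homologyMap]
    have h1 : Mono (HomologicalComplex.homologyMap
        (0 : B ⟶ (ChainComplex.single₀ (ModuleCat.{v} R)).obj 0) j) := by
      rw [K883.ElemHomology.mono_homologyMap_iff _ _ _ rfl rfl]
      intro x hx _
      exact hex _ _ _ rfl rfl x hx
    have h2 : Epi (HomologicalComplex.homologyMap
        (0 : B ⟶ (ChainComplex.single₀ (ModuleCat.{v} R)).obj 0) j) := by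
      have hz : IsZero ((ChainComplex.single₀ (ModuleCat.{v} R)).obj 0) :=
        Functor.map_isZero _ (isZero_zero _)
      have hz' : IsZero (((ChainComplex.single₀ (ModuleCat.{v} R)).obj 0).homology j) := by
        change IsZero ((HomologicalComplex.homologyFunctor _ _ j).obj _)
        exact Functor.map_isZero _ hz
      exact ⟨fun g h _ => hz'.eq_of_src g h⟩
    exact isIso_of_mono_of_epi _
  let P : ProjectiveResolution (0 : ModuleCat.{v} R) :=
    { complex := B
      projective := fun n => (IsProjective.iff_projective (R := R) (B.X n)).1 (hproj n)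
      π := 0
      quasiIso := hq }
  exact ProjectiveResolution.liftHomotopyZero (P := P) (Q := P) (𝟙 B) (by
    change 𝟙 B ≫ (0 : B ⟶ _) = 0
    exact Limits.comp_zero)

omit [Small.{v} R] in
/-- A chain map with contractible degreewise projective target and surjective components has a
section. -/
theorem exists_section (hproj : ∀ q, Module.Projective R (A''.X q))
    (hp : ∀ q, Function.Surjective (p.f q).hom) (s : Homotopy (𝟙 A'') 0) :
    ∃ h : A'' ⟶ A, h ≫ p = 𝟙 A'' := by
  have hσ : ∀ q, ∃ σ : A''.X q ⟶ A.X q, σ ≫ p.f q = 𝟙 _ := by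
    intro q
    have := hproj q
    obtain ⟨σ, hσ⟩ := Module.projective_lifting_property (p.f q).hom LinearMap.id (hp q)
    refine ⟨ModuleCat.ofHom σ, ?_⟩
    ext x
    exact LinearMap.congr_fun hσ x
  choose σ hσ using hσ
  refine ⟨Homotopy.nullHomotopicMap (fun i j => s.hom i j ≫ σ j), ?_⟩
  rw [Homotopy.nullHomotopicMap_comp]
  ext1 i
  have h1 := s.comm i
  rw [HomologicalComplex.zero_f, add_zero] at h1
  rw [h1]
  simp only [Category.assoc, hσ, Category.comp_id]
  rfl

end exact

end K883.FreeSES
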