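import Groth.Agent.W4c3biextchow.K883.FreeSES
import Mathlib.LinearAlgebra.FreeModule.Basic
import Mathlib.LinearAlgebra.Quotient.Basic

/-!
Retractions of quasi-isomorphic subcomplexes with projective quotients, and uniqueness up to
homotopy relative to the subcomplex.
-/

set_option autoImplicit false
universe u v

open CategoryTheory CategoryTheory.Limits

namespace K883.FreeSES

variable {R : Type u} [Ring R]

/-- The degreewise quotient complex. -/
noncomputable def quotCx {A' A : ChainComplex (ModuleCat.{v} R) ℕ} (f : A' ⟶ A) :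
    ChainComplex (ModuleCat.{v} R) ℕ where
  X q := ModuleCat.of R ((A.X q) ⧸ LinearMap.range (f.f q).hom)
  d i j := ModuleCat.ofHom ((LinearMap.range (f.f i).hom).mapQ (LinearMap.range (f.f j).hom)
    (A.d i j).hom (by
      rintro _ ⟨x, rfl⟩
      exact ⟨(A'.d i j).hom x, (comm_apply f i j x).symm⟩))
  shape i j h := by
    ext x
    change (Submodule.Quotient.mk ((A.d i j).hom x) : (A.X j) ⧸ _) = 0
    rw [A.shape i j h]
    exact Submodule.Quotient.mk_zero _
  d_comp_d' i j k _ _ := by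
    ext x
    change (Submodule.Quotient.mk ((A.d j k).hom ((A.d i j).hom x)) : (A.X k) ⧸ _) = 0
    rw [dd_apply]
    exact Submodule.Quotient.mk_zero _

/-- The projection to the quotient complex. -/
noncomputable def quotπ {A' A : ChainComplex (ModuleCat.{v} R) ℕ} (f : A' ⟶ A) : A ⟶ quotCx f where
  f q := ModuleCat.ofHom (LinearMap.range (f.f q).hom).mkQ
  comm' i j _ := by
    ext x
    rfl

theorem quotπ_surjective {A' A : ChainComplex (ModuleCat.{v} R) ℕ} (f : A' ⟶ A) (q : ℕ) :
    Function.Surjective ((quotπ f).f q).hom :=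
  Submodule.mkQ_surjective _

theorem quotπ_exact {A' A : ChainComplex (ModuleCat.{v} R) ℕ} (f : A' ⟶ A) (q : ℕ) :
    Function.Exact (f.f q).hom ((quotπ f).f q).hom := by
  intro x
  change (Submodule.Quotient.mk x : (A.X q) ⧸ LinearMap.range (f.f q).hom) = 0 ↔ _
  rw [Submodule.Quotient.mk_eq_zero]
  rfl

variable [Small.{v} R]

/-- Retraction of a quasi-isomorphic subcomplex with projective quotients. -/
theorem exists_retraction {A' A : ChainComplex (ModuleCat.{v} R) ℕ} (f : A' ⟶ A)
    (hf : ∀ q, Function.Injective (f.f q).hom)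
    (hq : ∀ q, Module.Projective R ((A.X q) ⧸ LinearMap.range (f.f q).hom)) [QuasiIso f] :
    ∃ g : A ⟶ A', f ≫ g = 𝟙 A' := by
  have s : Homotopy (𝟙 (quotCx f)) 0 := contraction (quotCx f) hq
    (exact_quotient f (quotπ f) hf (quotπ_surjective f) (quotπ_exact f))
  obtain ⟨h, hh⟩ := exists_section (quotπ f) hq (quotπ_surjective f) s
  have hh' : ∀ q (x : (quotCx f).X q), ((quotπ f).f q).hom ((h.f q).hom x) = x := fun q x =>
    congr($(HomologicalComplex.congr_hom hh q) x)
  -- the retraction, degree by degree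
  have hmem : ∀ q (x : A.X q), x - (h.f q).hom (((quotπ f).f q).hom x) ∈
      LinearMap.range (f.f q).hom := by
    intro q x
    have := (quotπ_exact f q (x - (h.f q).hom (((quotπ f).f q).hom x))).1 (by
      rw [map_sub, hh', sub_self])
    exact this
  let e : ∀ q, A'.X q ≃ₗ[R] LinearMap.range (f.f q).hom := fun q =>
    LinearEquiv.ofInjective (f.f q).hom (hf q)
  have he : ∀ q (y : LinearMap.range (f.f q).hom), (f.f q).hom ((e q).symm y) = y := by
    intro q y
    have := (e q).apply_symm_apply y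
    conv_rhs => rw [← this]
    rfl
  let g : ∀ q, A.X q →ₗ[R] A'.X q := fun q =>
    (e q).symm.toLinearMap ∘ₗ
      (LinearMap.id - (h.f q).hom ∘ₗ ((quotπ f).f q).hom).codRestrict _ (hmem q)
  have hg : ∀ q (x : A.X q), (f.f q).hom (g q x) = x - (h.f q).hom (((quotπ f).f q).hom x) := by
    intro q x
    exact he q _
  refine ⟨{ f := fun q => ModuleCat.ofHom (g q), comm' := ?_ }, ?_⟩
  · intro i j _
    ext x
    apply hf j
    change (f.f j).hom ((A'.d i j).hom (g i x)) = (f.f j).hom (g j ((A.d i j).hom x))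
    rw [hg, ← comm_apply, hg, map_sub, comm_apply, comm_apply]
  · ext q x
    apply hf q
    change (f.f q).hom (g q ((f.f q).hom x)) = (f.f q).hom x
    rw [hg]
    have : ((quotπ f).f q).hom ((f.f q).hom x) = 0 := (quotπ_exact f q _).2 ⟨x, rfl⟩
    rw [this, map_zero, sub_zero]

omit [Small.{v} R] in
/-- A chain map vanishing on the subcomplex factors through the quotient complex. -/
theorem exists_desc {A' A B : ChainComplex (ModuleCat.{v} R) ℕ} (f : A' ⟶ A) (u : A ⟶ B)
    (hu : f ≫ u = 0) : ∃ w : quotCx f ⟶ B, quotπ f ≫ w = u := by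
  have hu' : ∀ q, LinearMap.range (f.f q).hom ≤ LinearMap.ker (u.f q).hom := by
    rintro q _ ⟨x, rfl⟩
    exact congr($(HomologicalComplex.congr_hom hu q) x)
  refine ⟨{ f := fun q => ModuleCat.ofHom ((LinearMap.range (f.f q).hom).liftQ (u.f q).hom (hu' q))
            comm' := ?_ }, ?_⟩
  · intro i j _
    ext x
    obtain ⟨x, rfl⟩ := Submodule.Quotient.mk_surjective _ x
    exact comm_apply u i j x
  · ext q x
    rfl

theorem exists_homotopy {A' A : ChainComplex (ModuleCat.{v} R) ℕ} (f : A' ⟶ A)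
    (hf : ∀ q, Function.Injective (f.f q).hom)
    (hq : ∀ q, Module.Projective R ((A.X q) ⧸ LinearMap.range (f.f q).hom)) [QuasiIso f]
    (g₁ g₂ : A ⟶ A') (h₁ : f ≫ g₁ = 𝟙 A') (h₂ : f ≫ g₂ = 𝟙 A') :
    ∃ H : Homotopy g₁ g₂, ∀ i j : ℕ, f.f i ≫ H.hom i j = 0 := by
  have s : Homotopy (𝟙 (quotCx f)) 0 := contraction (quotCx f) hq
    (exact_quotient f (quotπ f) hf (quotπ_surjective f) (quotπ_exact f))
  obtain ⟨w, hw⟩ := exists_desc f (g₁ - g₂) (by rw [Preadditive.comp_sub, h₁, h₂, sub_self])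
  let H₀ : Homotopy (quotπ f ≫ 𝟙 (quotCx f) ≫ w) (quotπ f ≫ 0 ≫ w) :=
    (s.compRight w).compLeft (quotπ f)
  have e₁ : quotπ f ≫ 𝟙 (quotCx f) ≫ w = g₁ - g₂ := by rw [Category.id_comp, hw]
  have e₂ : quotπ f ≫ (0 : quotCx f ⟶ quotCx f) ≫ w = 0 := by
    rw [Limits.zero_comp, Limits.comp_zero]
  let H₁ : Homotopy (g₁ - g₂) 0 := (Homotopy.ofEq e₁.symm).trans (H₀.trans (Homotopy.ofEq e₂))
  refine ⟨Homotopy.equivSubZero.symm H₁, ?_⟩
  intro i j
  have h0 : f.f i ≫ (quotπ f).f i = 0 := by
    ext x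
    exact (quotπ_exact f i _).2 ⟨x, rfl⟩
  have h3 : (Homotopy.equivSubZero.symm H₁).hom i j = (quotπ f).f i ≫ s.hom i j ≫ w.f j := by
    simp [Homotopy.equivSubZero, H₁, H₀, Homotopy.trans, Homotopy.ofEq]
  rw [h3, ← Category.assoc, h0, Limits.zero_comp]


/-- Freeness over `ℤ` does not depend on the (unique) `ℤ`-module structure. -/
theorem projective_int {M : Type v} [AddCommGroup M] (m₁ m₂ : Module ℤ M)
    (h : @Module.Free ℤ M _ _ m₁) : @Module.Projective ℤ _ M _ m₂ := by
  have e : m₁ = m₂ := Subsingleton.elim _ _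
  subst e
  exact inferInstance

end K883.FreeSES
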