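import Groth.Agent.W4c3biextchow.K883.CxFunctor
import Groth.Agent.W4c3biextchow.K883.Retract

/-!
The natural isomorphism of groupoid functors attached to a chain homotopy.
-/

set_option autoImplicit false
universe u v

open CategoryTheory CategoryTheory.Limits W4c3biextchow

namespace K883.CxFunctor

variable {R : Type u} [Ring R] {C D : ChainComplex (ModuleCat.{v} R) ℕ}

theorem homotopy_zero {f g : C ⟶ D} (H : Homotopy f g) (x : C.X 0) :
    (f.f 0).hom x = (D.d 1 0).hom ((H.hom 0 1).hom x) + (g.f 0).hom x := by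
  have h := H.comm 0
  rw [Homotopy.dNext_zero_chainComplex, zero_add, Homotopy.prevD_chainComplex] at h
  exact congr($h x)

theorem homotopy_succ {f g : C ⟶ D} (H : Homotopy f g) (n : ℕ) (x : C.X (n + 1)) :
    (f.f (n + 1)).hom x = (H.hom n (n + 1)).hom ((C.d (n + 1) n).hom x) +
      (D.d (n + 2) (n + 1)).hom ((H.hom (n + 1) (n + 2)).hom x) + (g.f (n + 1)).hom x := by
  have h := H.comm (n + 1)
  rw [Homotopy.dNext_succ_chainComplex, Homotopy.prevD_chainComplex] at h
  exact congr($h x)

/-- The natural isomorphism attached to a homotopy. -/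
noncomputable def natIsoOfHomotopy {f g : C ⟶ D} (H : Homotopy f g) :
    cxFunctor f ≅ cxFunctor g :=
  NatIso.ofComponents
    (fun a =>
      { hom := mkHom D _ _ (-(H.hom 0 1).hom a.pt) (by
          rw [map_neg, cxFunctor_obj_pt, cxFunctor_obj_pt, homotopy_zero H]
          abel)
        inv := mkHom D _ _ ((H.hom 0 1).hom a.pt) (by
          rw [cxFunctor_obj_pt, cxFunctor_obj_pt, homotopy_zero H]
          abel)
        hom_inv_id := by
          refine Hom.ext ?_
          rw [comp_cl, id_cl]
          change (Submodule.Quotient.mk (-(H.hom 0 1).hom a.pt) : Q1 D) +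
            Submodule.Quotient.mk ((H.hom 0 1).hom a.pt) = 0
          rw [← Submodule.Quotient.mk_add, neg_add_cancel, Submodule.Quotient.mk_zero]
        inv_hom_id := by
          refine Hom.ext ?_
          rw [comp_cl, id_cl]
          change (Submodule.Quotient.mk ((H.hom 0 1).hom a.pt) : Q1 D) +
            Submodule.Quotient.mk (-(H.hom 0 1).hom a.pt) = 0
          rw [← Submodule.Quotient.mk_add, add_neg_cancel, Submodule.Quotient.mk_zero] })
    (fun {a b} φ => by
      obtain ⟨y, hy, rfl⟩ := exists_mkHom φ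
      refine Hom.ext ?_
      change q1Map f (Submodule.Quotient.mk y) +
          (Submodule.Quotient.mk (-(H.hom 0 1).hom b.pt) : Q1 D) =
        Submodule.Quotient.mk (-(H.hom 0 1).hom a.pt) + q1Map g (Submodule.Quotient.mk y)
      rw [q1Map_mk, q1Map_mk, ← Submodule.Quotient.mk_add, ← Submodule.Quotient.mk_add,
        Submodule.Quotient.eq]
      refine ⟨(H.hom 1 2).hom y, ?_⟩
      have h1 := homotopy_succ H 0 y
      rw [h1, hy, map_sub]
      abel)

theorem natIsoOfHomotopy_app_cl {f g : C ⟶ D} (H : Homotopy f g) (a : Obj C)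
    (ha : (H.hom 0 1).hom a.pt = 0) :
    ((natIsoOfHomotopy H).hom.app a : Hom D _ _).cl = 0 := by
  change (Submodule.Quotient.mk (-(H.hom 0 1).hom a.pt) : Q1 D) = 0
  rw [ha, neg_zero, Submodule.Quotient.mk_zero]

end K883.CxFunctor
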