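import Groth.Agent.Lefpen.H278.ModHomology

/-!
Elementwise criteria for a chain map of complexes of modules to be injective / surjective on
homology in a given degree.
-/

set_option autoImplicit false
universe u v w

open CategoryTheory CategoryTheory.Limits

namespace K883.ElemHomology

open Groth.Agent.Lefpen.H278.ModHomology

variable {R : Type v} [Ring R] {σ : Type w} {c : ComplexShape σ}
  {K L : HomologicalComplex (ModuleCat.{u} R) c} {j : σ}

theorem mono_homologyMap_iff (φ : K ⟶ L) (i k : σ) (hi : c.prev j = i) (hk : c.next j = k) :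
    Mono (HomologicalComplex.homologyMap φ j) ↔
      ∀ x : K.X j, (K.d j k).hom x = 0 → (∃ y : L.X i, (L.d i j).hom y = (φ.f j).hom x) →
        ∃ y : K.X i, (K.d i j).hom y = x := by
  rw [ModuleCat.mono_iff_injective]
  constructor
  · intro h x hx hy
    have hx' : (L.d j k).hom ((φ.f j).hom x) = 0 := by
      have h1 := congr($(φ.comm j k) x)
      change (L.d j k).hom ((φ.f j).hom x) = (φ.f k).hom ((K.d j k).hom x) at h1
      rw [h1, hx, map_zero]
    have h1 := cls_map φ hk ⟨x, hx⟩ ⟨_, hx'⟩ rfl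
    rw [(cls_eq_zero_iff L hk i hi ⟨_, hx'⟩).2 hy] at h1
    have h2 : cls K hk ⟨x, hx⟩ = 0 := h (h1.trans (map_zero _).symm)
    exact (cls_eq_zero_iff K hk i hi ⟨x, hx⟩).1 h2
  · intro h
    rw [injective_iff_map_eq_zero]
    intro a ha
    obtain ⟨⟨x, hx⟩, rfl⟩ := cls_surjective K hk a
    have hx0 : (K.d j k).hom x = 0 := hx
    have hx' : (L.d j k).hom ((φ.f j).hom x) = 0 := by
      have h1 := congr($(φ.comm j k) x)
      change (L.d j k).hom ((φ.f j).hom x) = (φ.f k).hom ((K.d j k).hom x) at h1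
      rw [h1, hx0, map_zero]
    have h1 := cls_map φ hk ⟨x, hx⟩ ⟨_, hx'⟩ rfl
    have h2 := h1.symm.trans ha
    exact (cls_eq_zero_iff K hk i hi ⟨x, hx⟩).2 (h x hx0 ((cls_eq_zero_iff L hk i hi _).1 h2))

theorem epi_homologyMap_iff (φ : K ⟶ L) (i k : σ) (hi : c.prev j = i) (hk : c.next j = k) :
    Epi (HomologicalComplex.homologyMap φ j) ↔
      ∀ y : L.X j, (L.d j k).hom y = 0 → ∃ (x : K.X j) (w : L.X i), (K.d j k).hom x = 0 ∧
        (φ.f j).hom x + (L.d i j).hom w = y := by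
  rw [ModuleCat.epi_iff_surjective]
  have hd : ∀ x : K.X j, (K.d j k).hom x = 0 → (L.d j k).hom ((φ.f j).hom x) = 0 := by
    intro x hx
    have h1 := congr($(φ.comm j k) x)
    change (L.d j k).hom ((φ.f j).hom x) = (φ.f k).hom ((K.d j k).hom x) at h1
    rw [h1, hx, map_zero]
  constructor
  · intro h y hy
    obtain ⟨a, ha⟩ := h (cls L hk ⟨y, hy⟩)
    obtain ⟨⟨x, hx⟩, rfl⟩ := cls_surjective K hk a
    have hx0 : (K.d j k).hom x = 0 := hx
    have h1 := cls_map φ hk ⟨x, hx⟩ ⟨_, hd x hx0⟩ rfl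
    have h2 : cls L hk (⟨y, hy⟩ - ⟨(φ.f j).hom x, hd x hx0⟩) = 0 := by
      rw [map_sub, sub_eq_zero, ← h1]
      exact ha.symm
    obtain ⟨w, hw⟩ := (cls_eq_zero_iff L hk i hi _).1 h2
    refine ⟨x, w, hx0, ?_⟩
    rw [hw]
    change (φ.f j).hom x + (y - (φ.f j).hom x) = y
    abel
  · intro h a
    obtain ⟨⟨y, hy⟩, rfl⟩ := cls_surjective L hk a
    obtain ⟨x, w, hx, hw⟩ := h y hy
    refine ⟨cls K hk ⟨x, hx⟩, ?_⟩
    refine (cls_map φ hk ⟨x, hx⟩ ⟨_, hd x hx⟩ rfl).trans ?_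
    rw [← sub_eq_zero, ← map_sub, cls_eq_zero_iff L hk i hi]
    refine ⟨-w, ?_⟩
    rw [map_neg]
    change -(L.d i j).hom w = (φ.f j).hom x - y
    rw [← hw]
    abel

end K883.ElemHomology
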