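import Mathlib.Algebra.Homology.Monoidal
import Mathlib.Algebra.Category.ModuleCat.Monoidal.Basic
import Mathlib.Algebra.Category.ModuleCat.Abelian
import Mathlib.Algebra.Category.ModuleCat.Colimits

/-!
Elementwise description of the tensor product of two ℕ-indexed chain complexes of modules.
-/

set_option autoImplicit false
universe v

open CategoryTheory MonoidalCategory HomologicalComplex

namespace K883.TensorElem

variable {R : Type v} [CommRing R] (C P Q : ChainComplex (ModuleCat.{v} R) ℕ) (π : P ⟶ Q)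

/-- The inclusion of a summand. -/
noncomputable abbrev inn (i j n : ℕ) (h : i + j = n) :
    C.X i ⊗ P.X j ⟶ (C ⊗ P).X n :=
  ιMapBifunctor C P (curriedTensor (ModuleCat.{v} R)) (ComplexShape.down ℕ) i j n h

theorem inn_whisker (i j n : ℕ) (h : i + j = n) :
    inn C P i j n h ≫ (C ◁ π).f n = (C.X i ◁ π.f j) ≫ inn C Q i j n h := by
  refine (ι_mapBifunctorMap (𝟙 C) π (curriedTensor (ModuleCat.{v} R))
    (ComplexShape.down ℕ) i j n h).trans ?_
  simp

theorem rel (i : ℕ) : (ComplexShape.down ℕ).Rel (i + 1) i := rfl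

theorem d₁_succ (i j n : ℕ) (h : i + j = n) :
    mapBifunctor.d₁ C P (curriedTensor (ModuleCat.{v} R)) (ComplexShape.down ℕ) (i + 1) j n =
      (C.d (i + 1) i ▷ P.X j) ≫ inn C P i j n h := by
  refine (mapBifunctor.d₁_eq C P (curriedTensor (ModuleCat.{v} R))
    (ComplexShape.down ℕ) (rel i) j n h).trans ?_
  simp

theorem d₂_succ (i j n : ℕ) (h : i + j = n) :
    mapBifunctor.d₂ C P (curriedTensor (ModuleCat.{v} R)) (ComplexShape.down ℕ) i (j + 1) n =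
      (-1 : ℤˣ) ^ i • ((C.X i ◁ P.d (j + 1) j) ≫ inn C P i j n h) := by
  refine (mapBifunctor.d₂_eq C P (curriedTensor (ModuleCat.{v} R))
    (ComplexShape.down ℕ) i (rel j) n h).trans ?_
  simp

theorem d₁_zero (j n : ℕ) :
    mapBifunctor.d₁ C P (curriedTensor (ModuleCat.{v} R)) (ComplexShape.down ℕ) 0 j n = 0 := by
  apply mapBifunctor.d₁_eq_zero
  simp

theorem d₂_zero (i n : ℕ) :
    mapBifunctor.d₂ C P (curriedTensor (ModuleCat.{v} R)) (ComplexShape.down ℕ) i 0 n = 0 := by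
  apply mapBifunctor.d₂_eq_zero
  simp

theorem inn_d (i j n m : ℕ) (h : i + j = n) :
    inn C P i j n h ≫ (C ⊗ P).d n m =
      mapBifunctor.d₁ C P (curriedTensor (ModuleCat.{v} R)) (ComplexShape.down ℕ) i j m +
      mapBifunctor.d₂ C P (curriedTensor (ModuleCat.{v} R)) (ComplexShape.down ℕ) i j m := by
  change inn C P i j n h ≫ (mapBifunctor C P (curriedTensor (ModuleCat.{v} R))
    (ComplexShape.down ℕ)).d n m = _
  rw [mapBifunctor.d_eq, Preadditive.comp_add, mapBifunctor.ι_D₁, mapBifunctor.ι_D₂]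

/-- The summands generate. -/
theorem eq_top_of_range_le (n : ℕ) (T : Submodule R ((C ⊗ P).X n))
    (hT : ∀ i j (h : i + j = n), LinearMap.range (inn C P i j n h).hom ≤ T) : T = ⊤ := by
  have h0 : ModuleCat.ofHom T.mkQ = (0 : (C ⊗ P).X n ⟶ ModuleCat.of R ((C ⊗ P).X n ⧸ T)) := by
    refine mapBifunctor.hom_ext (K₁ := C) (K₂ := P) (F := curriedTensor (ModuleCat.{v} R))
      (c := ComplexShape.down ℕ) ?_
    intro i j h
    rw [Limits.comp_zero]
    ext1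
    apply LinearMap.ext
    intro x
    change (Submodule.Quotient.mk ((inn C P i j n h).hom x) : (C ⊗ P).X n ⧸ T) = 0
    rw [Submodule.Quotient.mk_eq_zero]
    exact hT i j h ⟨x, rfl⟩
  rw [eq_top_iff]
  intro x _
  rw [← Submodule.Quotient.mk_eq_zero]
  exact congr($h0 x)

/-- The inclusions are injective. -/
theorem inn_injective (i j n : ℕ) (h : i + j = n) :
    Function.Injective (inn C P i j n h).hom := by
  classical
  let f : ∀ (i' j' : ℕ) (_ : i' + j' = n), (C.X i' ⊗ P.X j' : ModuleCat.{v} R) ⟶ C.X i ⊗ P.X j :=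
    fun i' j' _ => if e : i' = i ∧ j' = j then eqToHom (by rw [e.1, e.2]) else 0
  let r : (C ⊗ P).X n ⟶ C.X i ⊗ P.X j := mapBifunctorDesc (K₁ := C) (K₂ := P)
    (F := curriedTensor (ModuleCat.{v} R)) (c := ComplexShape.down ℕ) f
  have hr : inn C P i j n h ≫ r = 𝟙 _ := by
    refine (ι_mapBifunctorDesc (K₁ := C) (K₂ := P)
      (F := curriedTensor (ModuleCat.{v} R)) (c := ComplexShape.down ℕ) f i j h).trans ?_
    simp [f]
  refine Function.LeftInverse.injective (g := r.hom) fun x => ?_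
  exact congr($hr x)

section elementwise

theorem whisker_inn_apply (i j n : ℕ) (h : i + j = n) (x : (C.X i ⊗ P.X j : ModuleCat.{v} R)) :
    ((C ◁ π).f n).hom ((inn C P i j n h).hom x) =
      (inn C Q i j n h).hom ((C.X i ◁ π.f j).hom x) :=
  congr($(inn_whisker C P Q π i j n h) x)

theorem d_inn_zero_zero (m : ℕ) (x : (C.X 0 ⊗ P.X 0 : ModuleCat.{v} R)) :
    ((C ⊗ P).d 0 m).hom ((inn C P 0 0 0 rfl).hom x) = 0 := by
  have h : inn C P 0 0 0 rfl ≫ (C ⊗ P).d 0 m = 0 :=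
    (inn_d C P 0 0 0 m rfl).trans (by rw [d₁_zero, d₂_zero, add_zero])
  exact congr($h x)

theorem d_inn_succ_zero (i : ℕ) (x : (C.X (i + 1) ⊗ P.X 0 : ModuleCat.{v} R)) :
    ((C ⊗ P).d (i + 1) i).hom ((inn C P (i + 1) 0 (i + 1) rfl).hom x) =
      (inn C P i 0 i rfl).hom ((C.d (i + 1) i ▷ P.X 0).hom x) := by
  have h : inn C P (i + 1) 0 (i + 1) rfl ≫ (C ⊗ P).d (i + 1) i =
      (C.d (i + 1) i ▷ P.X 0) ≫ inn C P i 0 i rfl :=
    (inn_d C P (i + 1) 0 (i + 1) i rfl).trans (by rw [d₁_succ C P i 0 i rfl, d₂_zero, add_zero])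
  exact congr($h x)

theorem d_inn_zero_succ (j : ℕ) (x : (C.X 0 ⊗ P.X (j + 1) : ModuleCat.{v} R)) :
    ((C ⊗ P).d (j + 1) j).hom ((inn C P 0 (j + 1) (j + 1) (zero_add _)).hom x) =
      (inn C P 0 j j (zero_add _)).hom ((C.X 0 ◁ P.d (j + 1) j).hom x) := by
  have h := inn_d C P 0 (j + 1) (j + 1) j (zero_add _)
  rw [d₁_zero, d₂_succ C P 0 j j (zero_add _), zero_add, pow_zero, one_smul] at h
  exact congr($h x)

theorem d_inn_one_one (x : (C.X 1 ⊗ P.X 1 : ModuleCat.{v} R)) :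
    ((C ⊗ P).d 2 1).hom ((inn C P 1 1 2 rfl).hom x) =
      (inn C P 0 1 1 rfl).hom ((C.d 1 0 ▷ P.X 1).hom x) -
        (inn C P 1 0 1 rfl).hom ((C.X 1 ◁ P.d 1 0).hom x) := by
  have h : inn C P 1 1 2 rfl ≫ (C ⊗ P).d 2 1 = (C.d 1 0 ▷ P.X 1) ≫ inn C P 0 1 1 rfl -
      (C.X 1 ◁ P.d 1 0) ≫ inn C P 1 0 1 rfl :=
    (inn_d C P 1 1 2 1 rfl).trans (by
      rw [d₁_succ C P 0 1 1 rfl, d₂_succ C P 1 0 1 rfl, pow_one, Units.neg_smul, one_smul,
        ← sub_eq_add_neg])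
  exact congr($h x)

theorem exists_zero (t : (C ⊗ P).X 0) : ∃ x, t = (inn C P 0 0 0 rfl).hom x := by
  have h := eq_top_of_range_le C P 0 (LinearMap.range (inn C P 0 0 0 rfl).hom) (by
    intro i j h
    obtain ⟨rfl, rfl⟩ : i = 0 ∧ j = 0 := by omega
    exact le_rfl)
  have ht : t ∈ LinearMap.range (inn C P 0 0 0 rfl).hom := h ▸ Submodule.mem_top
  obtain ⟨x, hx⟩ := ht
  exact ⟨x, hx.symm⟩

theorem exists_one (t : (C ⊗ P).X 1) :
    ∃ x y, t = (inn C P 1 0 1 rfl).hom x + (inn C P 0 1 1 rfl).hom y := by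
  have h := eq_top_of_range_le C P 1 (LinearMap.range (inn C P 1 0 1 rfl).hom ⊔
    LinearMap.range (inn C P 0 1 1 rfl).hom) (by
    intro i j h
    obtain ⟨rfl, rfl⟩ | ⟨rfl, rfl⟩ : (i = 1 ∧ j = 0) ∨ (i = 0 ∧ j = 1) := by omega
    · exact le_sup_left
    · exact le_sup_right)
  have ht : t ∈ LinearMap.range (inn C P 1 0 1 rfl).hom ⊔
    LinearMap.range (inn C P 0 1 1 rfl).hom := h ▸ Submodule.mem_top
  obtain ⟨_, ⟨x, rfl⟩, _, ⟨y, rfl⟩, h⟩ := Submodule.mem_sup.1 ht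
  exact ⟨x, y, h.symm⟩

theorem exists_two (t : (C ⊗ P).X 2) :
    ∃ x y z, t = (inn C P 2 0 2 rfl).hom x + (inn C P 1 1 2 rfl).hom y +
      (inn C P 0 2 2 rfl).hom z := by
  have h := eq_top_of_range_le C P 2 ((LinearMap.range (inn C P 2 0 2 rfl).hom ⊔
    LinearMap.range (inn C P 1 1 2 rfl).hom) ⊔ LinearMap.range (inn C P 0 2 2 rfl).hom) (by
    intro i j h
    obtain ⟨rfl, rfl⟩ | ⟨rfl, rfl⟩ | ⟨rfl, rfl⟩ :
      (i = 2 ∧ j = 0) ∨ (i = 1 ∧ j = 1) ∨ (i = 0 ∧ j = 2) := by omega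
    · exact le_sup_left.trans le_sup_left
    · exact le_sup_right.trans le_sup_left
    · exact le_sup_right)
  have ht : t ∈ (LinearMap.range (inn C P 2 0 2 rfl).hom ⊔
    LinearMap.range (inn C P 1 1 2 rfl).hom) ⊔ LinearMap.range (inn C P 0 2 2 rfl).hom :=
      h ▸ Submodule.mem_top
  obtain ⟨_, h1, _, ⟨z, rfl⟩, h2⟩ := Submodule.mem_sup.1 ht
  obtain ⟨_, ⟨x, rfl⟩, _, ⟨y, rfl⟩, h3⟩ := Submodule.mem_sup.1 h1
  exact ⟨x, y, z, by rw [h3, h2]⟩

end elementwise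

end K883.TensorElem
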